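import Cfsg.Agent.Glauberman.Over
import Cfsg.Agent.Glauberman.Layers
import Cfsg.Agent.Chars.Induced.Extension
import Cfsg.Agent.CharTable.InvariantMatrix

/-!
# Preparation for the correspondence relative to a normal Sylow subgroup

The Clifford correspondence and pull-backs, in terms of `CfsgLib.Glauberman.mult`.
-/

set_option autoImplicit false

namespace CfsgLib.Glauberman.NormalSylow

open Cfsg MulAction CfsgLib.Glauberman

universe u v

variable {G : Type u} [Group G] [Fintype G]

theorem mult_eq_induced {C : Type u} [Group C] [Fintype C] (e : C →* G) (χ : IrrCharacter G)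
    (β : IrrCharacter C) :
    CfsgLib.Chars.Induced.mult (fun c => (χ : G → ℂ) (e c)) β = mult e χ β := by
  have h := CfsgLib.Chars.Induced.classInner_eq_mult
    (CfsgLib.Chars.isCharacter_comp (CfsgLib.Chars.isCharacter_coe χ) e) β
  exact (mult_eq_of_classInner_eq e χ β h).symm

/-- Pull-back along an isomorphism of the domain. -/
theorem mult_comp_equiv {C C' : Type*} [Group C] [Group C'] [Fintype C] [Fintype C'] (e : C →* G)
    (w : C' ≃* C) (χ : IrrCharacter G) (β : IrrCharacter C) :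
    mult (e.comp w.toMonoidHom) χ (irrPull w β) = mult e χ β := by
  apply mult_eq_of_classInner_eq
  rw [← classInner_eq_mult]
  simp only [classInner, irrPull_apply, Nat.card_congr w.toEquiv, MonoidHom.comp_apply,
    MulEquiv.coe_toMonoidHom]
  congr 1
  exact Fintype.sum_equiv w.toEquiv _ _ fun c => rfl

variable (N : Subgroup G) [N.Normal] [Fintype N]

/-- The Clifford correspondence, down. -/
theorem clifford_down (θ : IrrCharacter N) (T : Subgroup G) [Fintype T]
    (hT : T = CfsgLib.Chars.Induced.inertia N (θ : N → ℂ)) (hNT : N ≤ T) (χ : IrrCharacter G)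
    (hχ : mult N.subtype χ θ ≠ 0) :
    ∃ ψ : IrrCharacter T, mult (Subgroup.inclusion hNT) ψ θ ≠ 0 ∧ mult T.subtype χ ψ = 1 ∧
      ∀ φ : IrrCharacter T, mult (Subgroup.inclusion hNT) φ θ ≠ 0 → φ ≠ ψ →
        mult T.subtype χ φ = 0 := by
  classical
  have hχ' : CfsgLib.Chars.Induced.mult (fun n : N => (χ : G → ℂ) n) θ ≠ 0 := by
    have := mult_eq_induced N.subtype χ θ
    simp only [Subgroup.coe_subtype] at this
    rwa [this]
  obtain ⟨ψ, hψ, hind⟩ := CfsgLib.Chars.Induced.exists_indFun_eq hT hNT χ hχ'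
  refine ⟨ψ, by rwa [← mult_eq_induced (Subgroup.inclusion hNT) ψ θ], ?_, fun φ hφ hne => ?_⟩
  · have h1 := CfsgLib.Chars.Induced.mult_indFun_irr T ψ χ
    rw [hind, CfsgLib.Chars.Induced.mult_irr, if_pos rfl] at h1
    have h2 := mult_eq_induced T.subtype χ ψ
    simp only [Subgroup.coe_subtype] at h2
    rw [← h2, ← h1]
  · by_contra h0
    have h2 := mult_eq_induced T.subtype χ φ
    simp only [Subgroup.coe_subtype] at h2
    have h3 : CfsgLib.Chars.Induced.mult
        (Cfsg.indFun T (φ : T → ℂ)) χ ≠ 0 := by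
      rw [CfsgLib.Chars.Induced.mult_indFun_irr, h2]
      exact h0
    have hφ' : CfsgLib.Chars.Induced.mult
        (fun n : N => (φ : T → ℂ) (Subgroup.inclusion hNT n)) θ ≠ 0 := by
      rwa [mult_eq_induced (Subgroup.inclusion hNT) φ θ]
    have h4 := (CfsgLib.Chars.Induced.indFun_eq_of_mult_ne_zero hT hNT φ hφ' χ h3).1
    exact hne (CfsgLib.Chars.Induced.indFun_inertia_injective hT hNT φ ψ hφ' hψ (h4.trans hind.symm))

/-- The Clifford correspondence, up. -/
theorem clifford_up (θ : IrrCharacter N) (T : Subgroup G) [Fintype T]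
    (hT : T = CfsgLib.Chars.Induced.inertia N (θ : N → ℂ)) (hNT : N ≤ T) (ψ : IrrCharacter T)
    (hψ : mult (Subgroup.inclusion hNT) ψ θ ≠ 0) :
    ∃ χ : IrrCharacter G, mult N.subtype χ θ ≠ 0 ∧ mult T.subtype χ ψ = 1 ∧
      ∀ χ' : IrrCharacter G, mult T.subtype χ' ψ ≠ 0 → χ' = χ := by
  classical
  have hψ' : CfsgLib.Chars.Induced.mult
      (fun n : N => (ψ : T → ℂ) (Subgroup.inclusion hNT n)) θ ≠ 0 := by
    rwa [mult_eq_induced (Subgroup.inclusion hNT) ψ θ]
  let χ : IrrCharacter G := ⟨_, CfsgLib.Chars.Induced.isIrrCharacter_indFun_inertia hT hNT ψ hψ'⟩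
  have hval : ∀ χ' : IrrCharacter G, mult T.subtype χ' ψ = if χ = χ' then 1 else 0 := by
    intro χ'
    have h1 := CfsgLib.Chars.Induced.mult_indFun_irr T ψ χ'
    rw [show Cfsg.indFun T (ψ : T → ℂ) = (χ : G → ℂ) from rfl,
      CfsgLib.Chars.Induced.mult_irr] at h1
    have h2 := mult_eq_induced T.subtype χ' ψ
    simp only [Subgroup.coe_subtype] at h2
    rw [← h2, ← h1]
  refine ⟨χ, ?_, by rw [hval, if_pos rfl], fun χ' h => ?_⟩
  · have h5 : N.subtype = T.subtype.comp (Subgroup.inclusion hNT) := MonoidHom.ext fun _ => rfl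
    rw [h5, mult_comp]
    refine fun h0 => ?_
    have := (Finset.sum_eq_zero_iff.1 h0) ψ (Finset.mem_univ _)
    rw [hval, if_pos rfl, one_mul] at this
    exact hψ this
  · by_contra hne
    rw [hval, if_neg (Ne.symm hne)] at h
    exact h rfl

variable {N}

/-- Constituents of a restriction to a normal subgroup are conjugate. -/
theorem mem_conjOrbit (χ : IrrCharacter G) (θ η : IrrCharacter N) (hθ : mult N.subtype χ θ ≠ 0)
    (hη : mult N.subtype χ η ≠ 0) :
    ∃ x : G, CfsgLib.Chars.Induced.conjIrr x θ = η := by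
  have h1 := mult_eq_induced N.subtype χ θ
  have h2 := mult_eq_induced N.subtype χ η
  simp only [Subgroup.coe_subtype] at h1 h2
  exact CfsgLib.Chars.Induced.mem_conjOrbit_of_mult_ne_zero χ θ η (by rwa [h1]) (by rwa [h2])

/-- Multiplicities in a restriction are constant on conjugates. -/
theorem mult_conjIrr (χ : IrrCharacter G) (x : G) (θ : IrrCharacter N) :
    mult N.subtype χ (CfsgLib.Chars.Induced.conjIrr x θ) = mult N.subtype χ θ := by
  have h1 := mult_eq_induced N.subtype χ θ
  have h2 := mult_eq_induced N.subtype χ (CfsgLib.Chars.Induced.conjIrr x θ)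
  simp only [Subgroup.coe_subtype] at h1 h2
  rw [← h1, ← h2, CfsgLib.Chars.Induced.mult_restrict_conjIrr
    (CfsgLib.Chars.isClassFunction_of_isCharacter (CfsgLib.Chars.isCharacter_coe χ))]

/-- An invariant character lies over an invariant character of a normal `p'`-index subgroup. -/
theorem exists_invariant_below {A : Type v} [Group A] [MulDistribMulAction A G] {p : ℕ}
    [Fact p.Prime] (hA : IsPGroup p A) (hinv : ∀ (a : A), ∀ n ∈ N, a • n ∈ N)
    (hidx : ¬ p ∣ N.index) (χ : IrrCharacter G) (hχ : ∀ (a : A) g, (χ : G → ℂ) (a • g) = (χ : G → ℂ) g) :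
    ∃ θ : IrrCharacter N, mult N.subtype χ θ ≠ 0 ∧
      ∀ (a : A) (n n' : N), (n' : G) = a • (n : G) → (θ : N → ℂ) n' = (θ : N → ℂ) n := by
  classical
  letI := subAction N hinv
  obtain ⟨θ, hθ⟩ : ∃ θ : IrrCharacter N, mult N.subtype χ θ ≠ 0 := by
    by_contra hcon
    push Not at hcon
    have h := restrict_eq_sum N.subtype χ (1 : N)
    simp only [hcon, Nat.cast_zero, zero_mul, Finset.sum_const_zero, map_one] at h
    exact CfsgLib.Chars.map_one_ne_zero χ h
  have hact : ∀ (a : A) (η : IrrCharacter N), mult N.subtype χ (a • η) = mult N.subtype χ η := by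
    intro a η
    have h := mult_irrPull N.subtype (MulDistribMulAction.toMulAut A G a⁻¹)
      (MulDistribMulAction.toMulAut A N a⁻¹) (fun c => rfl) χ η
    have h2 : irrPull (MulDistribMulAction.toMulAut A G a⁻¹) χ = χ :=
      Subtype.ext (funext fun g => hχ a⁻¹ g)
    rw [h2] at h
    exact h
  let S : SubMulAction A (IrrCharacter N) :=
    { carrier := {η | mult N.subtype χ η ≠ 0}
      smul_mem' := fun a η (h : mult N.subtype χ η ≠ 0) => by
        show mult N.subtype χ (a • η) ≠ 0
        rwa [hact] }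
  have hcard : ¬ p ∣ Nat.card S := by
    have heq : (S : Set (IrrCharacter N)) = CfsgLib.Chars.Induced.conjOrbit θ := by
      ext η
      refine ⟨fun h => mem_conjOrbit χ θ η hθ h, ?_⟩
      rintro ⟨x, rfl⟩
      show mult N.subtype χ _ ≠ 0
      rw [mult_conjIrr]
      exact hθ
    have h1 : Nat.card S = (CfsgLib.Chars.Induced.inertia N (θ : N → ℂ)).index := by
      rw [← CfsgLib.Chars.Induced.card_conjOrbit θ]
      exact Nat.card_congr (Equiv.setCongr heq)
    rw [h1]
    exact fun hd => hidx (hd.trans (Subgroup.index_dvd_of_le (CfsgLib.Chars.Induced.le_inertia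
      (CfsgLib.Chars.isClassFunction_of_isCharacter (CfsgLib.Chars.isCharacter_coe θ)))))
  obtain ⟨η, hη⟩ := hA.nonempty_fixed_point_of_prime_not_dvd_card S hcard
  refine ⟨η.1, η.2, fun a n n' hn => ?_⟩
  have h1 : a⁻¹ • (η.1 : IrrCharacter N) = η.1 := congrArg Subtype.val (hη a⁻¹)
  conv_rhs => rw [← h1]
  rw [irrAction_apply, inv_inv]
  exact congrArg (η.1 : N → ℂ) (Subtype.ext hn : n' = a • n)

/-- Two invariant conjugate characters are conjugate by an element fixed modulo `N`. -/
theorem exists_fixed_conj {A : Type v} [Group A] [MulDistribMulAction A G] {p : ℕ}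
    [Fact p.Prime] (hA : IsPGroup p A) (hinv : ∀ (a : A), ∀ n ∈ N, a • n ∈ N)
    (hidx : ¬ p ∣ N.index) (θ θ' : IrrCharacter N)
    (hθ : ∀ (a : A) (n n' : N), (n' : G) = a • (n : G) → (θ : N → ℂ) n' = (θ : N → ℂ) n)
    (hθ' : ∀ (a : A) (n n' : N), (n' : G) = a • (n : G) → (θ' : N → ℂ) n' = (θ' : N → ℂ) n)
    {x : G} (hx : CfsgLib.Chars.Induced.conjIrr x θ = θ') :
    ∃ c : G, (∀ a : A, a • c * c⁻¹ ∈ N) ∧ CfsgLib.Chars.Induced.conjIrr c θ = θ' := by
  classical
  set T := CfsgLib.Chars.Induced.inertia N (θ : N → ℂ) with hT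
  have hNT : N ≤ T := CfsgLib.Chars.Induced.le_inertia
      (CfsgLib.Chars.isClassFunction_of_isCharacter (CfsgLib.Chars.isCharacter_coe θ))
  let π := QuotientGroup.mk' N
  letI : MulAction A (G ⧸ N) :=
    { smul := fun a => QuotientGroup.map N N (MulDistribMulAction.toMonoidHom G a) (hinv a)
      one_smul := fun q => by
        obtain ⟨g, rfl⟩ := QuotientGroup.mk_surjective q
        exact congrArg QuotientGroup.mk (one_smul A g)
      mul_smul := fun a b q => by
        obtain ⟨g, rfl⟩ := QuotientGroup.mk_surjective q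
        exact congrArg QuotientGroup.mk (mul_smul a b g) }
  have hmem : ∀ g : G, CfsgLib.Chars.Induced.conjIrr g θ = θ' ↔ x⁻¹ * g ∈ T := by
    intro g
    rw [← hx, hT, ← CfsgLib.Chars.Induced.conjFun_eq_conjFun_iff, Subtype.ext_iff,
      CfsgLib.Chars.Induced.conjIrr_coe, CfsgLib.Chars.Induced.conjIrr_coe]
  have hsmul : ∀ (a : A) (g : G), CfsgLib.Chars.Induced.conjIrr g θ = θ' →
      CfsgLib.Chars.Induced.conjIrr (a • g) θ = θ' := by
    intro a g hg
    apply Subtype.ext
    rw [CfsgLib.Chars.Induced.conjIrr_coe]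
    funext n
    let m : N := ⟨a⁻¹ • (n : G), hinv a⁻¹ _ n.2⟩
    have h1 := congrFun (congrArg Subtype.val hg) m
    rw [CfsgLib.Chars.Induced.conjIrr_coe] at h1
    rw [hθ' a⁻¹ n m rfl] at h1
    rw [← h1]
    symm
    rw [CfsgLib.Chars.Induced.conjFun_apply, CfsgLib.Chars.Induced.conjFun_apply]
    refine hθ a⁻¹ _ _ ?_
    simp [m, smul_mul', smul_inv']
  let S : SubMulAction A (G ⧸ N) :=
    { carrier := {q | ∃ g : G, (g : G ⧸ N) = q ∧ CfsgLib.Chars.Induced.conjIrr g θ = θ'}
      smul_mem' := by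
        rintro a q ⟨g, rfl, hg⟩
        exact ⟨a • g, rfl, hsmul a g hg⟩ }
  have hcard : ¬ p ∣ Nat.card S := by
    have h1 : Nat.card S = Nat.card (T.map π) := by
      refine Nat.card_congr ((Equiv.mulLeft (π x)⁻¹).subtypeEquiv fun q => ?_)
      constructor
      · rintro ⟨g, rfl, hg⟩
        exact ⟨x⁻¹ * g, (hmem g).1 hg, by simp [π]⟩
      · rintro ⟨t, ht, he⟩
        refine ⟨x * t, ?_, (hmem _).2 (by rwa [inv_mul_cancel_left])⟩
        simp only [Equiv.coe_mulLeft] at he
        rw [eq_inv_mul_iff_mul_eq] at he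
        rw [← he]
        rfl
    rw [h1]
    exact fun hd => hidx (hd.trans (by
      rw [Subgroup.index_eq_card]; exact Subgroup.card_subgroup_dvd_card _))
  obtain ⟨⟨_, g, rfl, hg⟩, hfix⟩ := hA.nonempty_fixed_point_of_prime_not_dvd_card S hcard
  refine ⟨g, fun a => ?_, hg⟩
  have h1 : ((a • g : G) : G ⧸ N) = (g : G ⧸ N) := congrArg Subtype.val (hfix a)
  have h2 : (a • g) / g ∈ N := QuotientGroup.eq_iff_div_mem.1 h1
  rwa [div_eq_mul_inv] at h2

end CfsgLib.Glauberman.NormalSylow
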